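import Cfsg.Agent.Lib.helper3.G23TC.A.Fin0
import Cfsg.Agent.Lib.helper3.G23TC.A.Fin1

/-! the final table (generated, helper3) -/

set_option autoImplicit false
set_option maxRecDepth 100000
set_option linter.unusedSimpArgs false
set_option Elab.async false

namespace Cfsg.Agent.Lib.Helper3.G23TC.A

open Cfsg.Agent.Lib.Helper12.TC Cfsg.Agent.Lib.Helper12.TCG Cfsg.Agent.Lib.Helper3.TCUpper

theorem hdefs_0 : defsPartK F 0 16384 = true := by decide +kernel

theorem hdefs_1 : defsPartK F 16384 8476 = true := by decide +kernel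

theorem hdefs : defsK F cD = true :=
  defsK_of_OK (defsOK_step hdefs_1 rfl
    (defsOK_step hdefs_0 rfl
    (defsOK_start F)))

theorem beq_chain {x A B : ℕ} (h1 : Nat.beq x A = true) (h2 : Nat.beq A B = true) :
    Nat.beq x B = true := by
  rw [Nat.eq_of_beq_eq_true h1]
  exact h2

theorem hlive' : Nat.beq (liveK (fr0 ++ (fr1))) (Nat.lor LIVE0 (LIVE1)) = true :=
  (liveK_append_beq hlive_0 hlive_1)

theorem hliveq : Nat.beq (Nat.lor LIVE0 (LIVE1)) LIVE = true := by decide +kernel

theorem hlive : Nat.beq (liveK finrecs) LIVE = true := by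
  unfold finrecs
  exact beq_chain hlive' hliveq

theorem hlive0 : bitK LIVE 0 = true := by decide +kernel

theorem hfin : finG cIV F cK 12 finrecs = true :=
  finG_of_parts hlive hlive0 (Fn.allListK_append hfin_0 hfin_1)

theorem hlen : finrecs.length = cN := by
  simp only [finrecs, List.length_append]
  decide +kernel

end Cfsg.Agent.Lib.Helper3.G23TC.A
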